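import Mathlib
import Cfsg.Agent.Lib.MultC.Model

/-! permutation model of degree 24: generators and a stabiliser chain (generated) -/

set_option autoImplicit false
set_option maxRecDepth 100000

namespace CfsgLib.MultC.M11

open CfsgLib.Comput CfsgLib.MultC

noncomputable def u0_0 : Net :=
  Net.cons 1 0x51044
  (Net.cons 2 0x112000
  (Net.cons 4 0xf0800
  (Net.cons 8 160
  (Net.cons 16 242
  (Net.cons 8 202
  (Net.cons 4 0x10d08
  (Net.cons 2 0x222200
  (Net.cons 1 0x144154
  (Net.nil)))))))))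

noncomputable def u0_1 : Net :=
  Net.cons 1 0x55000
  (Net.cons 2 0x132000
  (Net.cons 4 0x80c00
  (Net.cons 8 4
  (Net.cons 16 228
  (Net.cons 8 44
  (Net.cons 4 0x50600
  (Net.cons 2 0x100232
  (Net.cons 1 0x511410
  (Net.nil)))))))))

noncomputable def u1_0 : Net :=
  Net.cons 1 0x10050
  (Net.cons 2 0x321000
  (Net.cons 4 0xb0800
  (Net.cons 8 28
  (Net.cons 16 124
  (Net.cons 8 250
  (Net.cons 4 0xa0b00
  (Net.cons 2 0x100302
  (Net.cons 1 0x454514
  (Net.nil)))))))))

noncomputable def u1_1 : Net :=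
  Net.cons 1 0x55504
  (Net.cons 2 0x31210
  (Net.cons 4 512
  (Net.cons 8 30
  (Net.cons 16 158
  (Net.cons 8 92
  (Net.cons 4 0x50d04
  (Net.cons 2 0x232102
  (Net.cons 1 0x450400
  (Net.nil)))))))))

noncomputable def u2_0 : Net :=
  Net.cons 1 0x540040
  (Net.cons 2 0x112200
  (Net.cons 4 0x10d00
  (Net.cons 8 13
  (Net.cons 16 77
  (Net.cons 8 217
  (Net.cons 4 8
  (Net.cons 2 0x2300
  (Net.cons 1 0x44440
  (Net.nil)))))))))

noncomputable def u2_1 : Net :=
  Net.cons 1 0x410140
  (Net.cons 2 0x332200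
  (Net.cons 4 0x30500
  (Net.cons 8 30
  (Net.cons 16 94
  (Net.cons 8 198
  (Net.cons 4 0x70100
  (Net.cons 2 0x332200
  (Net.cons 1 0x111140
  (Net.nil)))))))))

noncomputable def u3_0 : Net :=
  Net.cons 1 0x410140
  (Net.cons 2 0x332200
  (Net.cons 4 0x30500
  (Net.cons 8 30
  (Net.cons 16 94
  (Net.cons 8 198
  (Net.cons 4 0x70100
  (Net.cons 2 0x332200
  (Net.cons 1 0x111140
  (Net.nil)))))))))

noncomputable def u3_1 : Net :=
  Net.cons 1 0x110110
  (Net.cons 2 0x1300
  (Net.cons 4 0xc0000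
  (Net.cons 8 145
  (Net.cons 16 209
  (Net.cons 8 185
  (Net.cons 4 0xc0400
  (Net.cons 2 0x1300
  (Net.cons 1 0x510110
  (Net.nil)))))))))

noncomputable def V0 : List Net := [u0_0, u0_1]
noncomputable def U0 : List Net := (V0 ++ revL V0)
noncomputable def V1 : List Net := [u1_0, u1_1]
noncomputable def U1 : List Net := U0 ++ (V1 ++ revL V1)
noncomputable def V2 : List Net := [u2_0, u2_1]
noncomputable def U2 : List Net := U1 ++ (V2 ++ revL V2)
noncomputable def V3 : List Net := [u3_0, u3_1]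
noncomputable def U3 : List Net := U2 ++ (V3 ++ revL V3)
noncomputable def U : List Net := U3

theorem v1 : wordsOK 24 5 U0 V1 [[0x40303], [0x10401020101010101]] = true := by decide +kernel
theorem v2 : wordsOK 24 5 U1 V2 [[0x706050505], [0x80708]] = true := by decide +kernel
theorem v3 : wordsOK 24 5 U2 V3 [[0xb0c0b], [0xb0b0a09090c0b0b]] = true := by decide +kernel

theorem realU {G Ω : Type*} [Group G] [MulAction G Ω] {pt : ℕ → Ω} (h : AllReal G 24 pt V0) :
    AllReal G 24 pt U := by
  have h0 : AllReal G 24 pt U0 := h.append h.rev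
  have k1 : AllReal G 24 pt V1 := h0.words (by norm_num) v1
  have h1 : AllReal G 24 pt U1 := h0.append (k1.append k1.rev)
  have k2 : AllReal G 24 pt V2 := h1.words (by norm_num) v2
  have h2 : AllReal G 24 pt U2 := h1.append (k2.append k2.rev)
  have k3 : AllReal G 24 pt V3 := h2.words (by norm_num) v3
  have h3 : AllReal G 24 pt U3 := h2.append (k3.append k3.rev)
  exact h3

end CfsgLib.MultC.M11
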