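import Mathlib
import Cfsg.Agent.Lib.MultC.M11.Base

/-! multiplier certificate for the prime 2 (generated) -/

set_option autoImplicit false
set_option maxRecDepth 100000

namespace CfsgLib.MultC.M11.P2

open CfsgLib.Comput CfsgLib.MultC

noncomputable def x0 : Net :=
  Net.cons 1 0x440410
  (Net.cons 2 0x22000
  (Net.cons 4 0xd0a00
  (Net.cons 8 132
  (Net.cons 16 212
  (Net.cons 8 172
  (Net.cons 4 0xd0b00
  (Net.cons 2 0x32010
  (Net.cons 1 0x540410
  (Net.nil)))))))))

noncomputable def x1 : Net :=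
  Net.cons 1 0x104400
  (Net.cons 2 0x100010
  (Net.cons 4 0x40c00
  (Net.cons 8 4
  (Net.cons 16 228
  (Net.cons 8 132
  (Net.cons 4 0xe0104
  (Net.cons 2 48
  (Net.cons 1 0x401104
  (Net.nil)))))))))

noncomputable def x2 : Net :=
  Net.cons 1 0x501110
  (Net.cons 2 0x213220
  (Net.cons 4 0x30700
  (Net.cons 8 224
  (Net.cons 16 240
  (Net.cons 8 92
  (Net.cons 4 0x90700
  (Net.cons 2 0x213220
  (Net.cons 1 0x44404
  (Net.nil)))))))))

noncomputable def x3 : Net :=
  Net.cons 1 0x550000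
  (Net.cons 2 0x301110
  (Net.cons 4 0xc0000
  (Net.cons 8 1
  (Net.cons 16 165
  (Net.cons 8 1
  (Net.cons 4 0x60c
  (Net.cons 2 0x101130
  (Net.cons 1 0x410014
  (Net.nil)))))))))

noncomputable def x4 : Net :=
  Net.cons 1 0x50004
  (Net.cons 2 0x120200
  (Net.cons 4 0x60000
  (Net.cons 8 12
  (Net.cons 16 46
  (Net.cons 8 36
  (Net.cons 4 0x40b02
  (Net.cons 2 0x112002
  (Net.cons 1 0x50004
  (Net.nil)))))))))

noncomputable def x5 : Net :=
  Net.cons 2 0x210230
  (Net.cons 4 0x10200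
  (Net.cons 16 20
  (Net.cons 8 40
  (Net.cons 4 0x90300
  (Net.cons 2 0x210230
  (Net.cons 1 0x404000
  (Net.nil)))))))

noncomputable def X : List Net := [x0, x1, x2, x3, x4, x5]

def D : Dat := ⟨1, 4, 1,
  0x8888cc860,
  5, 0x81842,
  0x188ac,
  0x11000, 2⟩

def R0 : List (ℕ × ℕ × ℕ × List ℕ) := [(2, 1, 1, [113]),
  (4, 2, 2, [129]),
  (4, 0, 0, [97, 145]),
  (2, 0, 0, [49, 81, 145]),
  (4, 2, 1, [113, 129, 145]),
  (2, 1, 0, [65, 81, 97, 129, 145])]
def R1 : List (ℕ × List ℕ × List ℕ × List ℕ) := [(0, [0, 0], [2], [33, 81, 129, 145, 193]),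
  (0, [0, 1], [2, 1, 0], [113, 129, 145, 193]),
  (1, [3, 3], [], [1, 145])]

noncomputable def A : LA := ⟨8, [[81, 209], [17, 81, 161], [17], [81]],
  [], [],
  Dat.sps R0 ++ (Dat.sps R1),
  [0x100010011,
  0,
  0x11000001,
  0x11011,
  0x100110,
  0,
  0x10111,
  1,
  16,
  0x10011],
  []⟩

def lv : LB := [(2, 1, [4, 3, 2]), (3, 1, [1])]

theorem r0 : D.consAll 8 R0 = true := by decide +kernel
theorem r1 : D.fusAll 8 R1 = true := by decide +kernel
theorem xw : wordsOK 24 5 U X [[0x307070b0e0d], [0x40107090c090d0e], [0x307070b0b0d0e], [0x303020605050c09090e0d], [0x303020707090d], [0xb0e0d]] = true := by decide +kernel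
theorem c1_0 : allRg (D.rowChk (stepT 24 5 X) (idTab 24 5)) 0 4 = true := by decide +kernel
theorem c2_0 : allRg (D.fusChk (stepT 24 5 X) (idTab 24 5)) 0 5 = true := by decide +kernel
theorem c3 : lbOK 24 X 4 (2 ^ 4) lv = true := by decide +kernel
theorem c4 : D.basicOK A = true := by decide +kernel
theorem c5_0 : allRg (D.rowOK A) 0 4 = true := by decide +kernel

theorem pb {G : Type*} {Ω : Type*} [Group G] [MulAction G Ω] {pt : ℕ → Ω} (M : PModel G 24 pt)
    (h : AllReal G 24 pt V0) (hG : Nat.card G = 7920) : PBound G 2 [] :=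
  M.pBound (W := X) (k := 5) (D := D) (A := A) ((realU h).words (by norm_num) xw) (by norm_num) (by norm_num) rfl 0 rfl
    (by decide) rfl (by decide) (allRg_zero c1_0) (allRg_zero c2_0) c3 hG
    (by decide +kernel) ((D.allGood_cons 8 R0 (by norm_num) r0).append (D.allGood_fus 8 R1 (by norm_num) r1)) c4 (allRg_zero c5_0)

end CfsgLib.MultC.M11.P2
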