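import Mathlib
import Cfsg.Agent.Lib.MultC.Out

/-! generated certificate -/

set_option autoImplicit false
set_option maxRecDepth 100000
set_option Elab.async false

namespace CfsgLib.MultC.M11.O

open CfsgLib.Comput CfsgLib.MultC

noncomputable def u0_0 : Net :=
  Net.cons 1 0x111000
  (Net.cons 2 0x122110
  (Net.cons 4 0xe0000
  (Net.cons 8 69
  (Net.cons 16 245
  (Net.cons 8 211
  (Net.cons 4 0x3010c
  (Net.cons 2 0x303130
  (Net.cons 1 0x405110
  (Net.nil)))))))))

noncomputable def u0_1 : Net :=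
  Net.cons 1 0x50000
  (Net.cons 2 0x103200
  (Net.cons 4 0xe0000
  (Net.cons 8 32
  (Net.cons 16 180
  (Net.cons 8 220
  (Net.cons 4 0x3050c
  (Net.cons 2 0x132320
  (Net.cons 1 0x1054
  (Net.nil)))))))))

noncomputable def u0_2 : Net :=
  Net.cons 1 0x151440
  (Net.cons 2 0x3110
  (Net.cons 4 0x10000
  (Net.cons 8 49
  (Net.cons 16 49
  (Net.cons 8 197
  (Net.cons 4 0x50e08
  (Net.cons 2 0x201320
  (Net.cons 1 0x155510
  (Net.nil)))))))))

noncomputable def u1_0 : Net :=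
  Net.cons 1 0x401100
  (Net.cons 2 0x3000
  (Net.cons 4 0xb0500
  (Net.cons 8 33
  (Net.cons 16 165
  (Net.cons 8 23
  (Net.cons 4 0x90500
  (Net.cons 2 0x203000
  (Net.cons 1 0x104400
  (Net.nil)))))))))

noncomputable def u1_1 : Net :=
  Net.cons 1 0x551000
  (Net.cons 2 0x300110
  (Net.cons 4 0xd0200
  (Net.cons 8 129
  (Net.cons 16 133
  (Net.cons 8 3
  (Net.cons 4 4
  (Net.cons 2 0x130130
  (Net.cons 1 0x440114
  (Net.nil)))))))))

noncomputable def u2_0 : Net :=
  Net.cons 1 0x405500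
  (Net.cons 2 0x31000
  (Net.cons 4 0x60a00
  (Net.cons 8 81
  (Net.cons 16 113
  (Net.cons 8 211
  (Net.cons 4 0xc0f00
  (Net.cons 2 0x210102
  (Net.cons 1 0x1504
  (Net.nil)))))))))

noncomputable def u2_1 : Net :=
  Net.cons 1 0x54144
  (Net.cons 2 0x110030
  (Net.cons 4 0x50700
  (Net.cons 8 4
  (Net.cons 16 22
  (Net.cons 8 146
  (Net.cons 4 0x10304
  (Net.cons 2 0x220120
  (Net.cons 1 0x54540
  (Net.nil)))))))))

noncomputable def u3_0 : Net :=
  Net.cons 1 0x441110
  (Net.cons 2 0x322130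
  (Net.cons 4 0x80400
  (Net.cons 8 13
  (Net.cons 16 143
  (Net.cons 8 229
  (Net.cons 4 0x90c0c
  (Net.cons 2 0x22032
  (Net.cons 1 0x451500
  (Net.nil)))))))))

noncomputable def u3_1 : Net :=
  Net.cons 1 0x450040
  (Net.cons 2 0x101010
  (Net.cons 4 512
  (Net.cons 8 76
  (Net.cons 16 92
  (Net.cons 8 96
  (Net.cons 4 0x50606
  (Net.cons 2 0x31200
  (Net.cons 1 0x144454
  (Net.nil)))))))))

noncomputable def u4_0 : Net :=
  Net.cons 1 0x510
  (Net.cons 2 0x210200
  (Net.cons 4 0xc0b00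
  (Net.cons 8 72
  (Net.cons 16 220
  (Net.cons 8 150
  (Net.cons 4 0x2070e
  (Net.cons 2 0x20320
  (Net.cons 1 0x401444
  (Net.nil)))))))))

noncomputable def s0_0 : ℕ := 0x5335e
noncomputable def V0 : List Net := [u0_0, u0_1, u0_2]
noncomputable def U0 : List Net := (V0 ++ revL V0)
noncomputable def V1 : List Net := [u1_0, u1_1]
noncomputable def U1 : List Net := U0 ++ (V1 ++ revL V1)
noncomputable def V2 : List Net := [u2_0, u2_1]
noncomputable def U2 : List Net := U1 ++ (V2 ++ revL V2)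
noncomputable def V3 : List Net := [u3_0, u3_1]
noncomputable def U3 : List Net := U2 ++ (V3 ++ revL V3)
noncomputable def V4 : List Net := [u4_0]
noncomputable def U4 : List Net := U3 ++ (V4 ++ revL V4)
noncomputable def Wr : List Net := ((((revL V0) ++ (V1 ++ revL V1)) ++ (V2 ++ revL V2)) ++ (V3 ++ revL V3)) ++ (V4 ++ revL V4)
noncomputable def W : List Net := u0_0 :: u0_1 :: u0_2 :: Wr

noncomputable def lev3 : Lev := (2, 1, [14, 15, 16, 17], 0x3c000, [])
noncomputable def L3 : List Lev := lev3 :: []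
noncomputable def lev2 : Lev := (13, 2, [10, 11, 12, 13], 0x3fc00, [])
noncomputable def L2 : List Lev := lev2 :: L3
noncomputable def lev1 : Lev := (8, 2, [6, 7, 8, 9], 0x3ffc0, [])
noncomputable def L1 : List Lev := lev1 :: L2
noncomputable def lev0 : Lev := (6, 2, [0, 1, 2, 3, 4, 5], 0x3ffff, [s0_0])
noncomputable def L0 : List Lev := lev0 :: L1
noncomputable def D : OD where
  r := 11
  u := 2
  J := [1, 10]
  K := [0, 0, 3, 4, 1, 2, 2, 1, 4, 3, 0]
  wl := 2
  wt := 0x202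
  m := 5
  V := [0]
  pa := [1, 4]
  pl := [0, 2, 0x202, 0x505, 5]
  R := [(0x1010301, 3)]
  P := [6]
  S := [0]
noncomputable def ma : List (ℕ × ℕ) := [(18, 1), (19, 10)]
noncomputable def ml : List (ℕ × ℕ) := [(1, 1), (4, 4)]

end CfsgLib.MultC.M11.O
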